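import Groth.Agent.Lib.SectionJ.Ideal
import Groth.Agent.Lib.Flat55.SmoothFibreInj
import Groth.Agent.Lib.Abhyankar.Cover
import Groth.Agent.H20.SmoothRegular
import Groth.Agent.Lib.Regular.Quotient

/-!
Vanishing on a smooth algebra with geometrically connected fibres is detected on one infinitesimal
neighbourhood of a section.
-/

universe u

open scoped TensorProduct

set_option autoImplicit false
set_option linter.style.haveILetI false

namespace Groth.Agent.Lib.SectionJ.Infinitesimal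

open Groth.Agent.Lib

variable {R B : Type u} [CommRing R] [CommRing B] [Algebra R B] [Algebra.Smooth R B]

theorem isDomain_fibre
    (hconn : ∀ (K : Type u) [Field K] [IsAlgClosed K] [Algebra R K],
      ConnectedSpace (PrimeSpectrum (K ⊗[R] B)))
    (K : Type u) [Field K] [IsAlgClosed K] [Algebra R K] : IsDomain (K ⊗[R] B) := by
  haveI := hconn K
  haveI : IsNoetherianRing (K ⊗[R] B) := Algebra.FiniteType.isNoetherianRing K _
  refine Abhyankar.Cover.isDomain_of_connected _ fun m _ => ?_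
  haveI : Algebra.FormallySmooth (K ⊗[R] B) (Localization.AtPrime m) :=
    Algebra.FormallySmooth.of_isLocalization m.primeCompl
  haveI : Algebra.IsSmoothAt K m := Algebra.FormallySmooth.comp K (K ⊗[R] B) (Localization.AtPrime m)
  haveI := Groth.Agent.H20.SmoothRegular.isRegularLocalRing K m
  exact Regular.Quotient.isDomain _

/-- An element killed by something which is `1` along a section is zero. -/
theorem eq_zero_of_mul_eq_zero
    (hconn : ∀ (K : Type u) [Field K] [IsAlgClosed K] [Algebra R K],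
      ConnectedSpace (PrimeSpectrum (K ⊗[R] B)))
    (e : B →ₐ[R] R) {R' : Type u} [CommRing R'] [Algebra R R'] (v : B) (hv : e v = 1)
    (x : R' ⊗[R] B) (hx : ((1 : R') ⊗ₜ[R] v) * x = 0) : x = 0 := by
  classical
  let D := R' ⊗[R] B
  by_contra hne
  let I : Ideal D := (Submodule.span D {x}).annihilator
  have hI : I ≠ ⊤ := fun h => hne (by
    have h1 := Submodule.mem_annihilator_span_singleton x (1 : D)
    simpa using h1.1 (show (1 : D) ∈ I by rw [h]; trivial))
  obtain ⟨P, hP, hIP⟩ := Ideal.exists_le_maximal I hI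
  haveI := hP.isPrime
  let p : Ideal R' := P.comap (algebraMap R' D)
  let k := p.ResidueField
  let K := AlgebraicClosure k
  haveI := isDomain_fibre hconn K
  let ψ : D →ₐ[R] K ⊗[R] B :=
    Algebra.TensorProduct.map (IsScalarTower.toAlgHom R R' K) (AlgHom.id R B)
  let ψk : D →ₐ[R] k ⊗[R] B :=
    Algebra.TensorProduct.map (IsScalarTower.toAlgHom R R' k) (AlgHom.id R B)
  let ι : k →ₐ[R] K := IsScalarTower.toAlgHom R k K
  have hψ : ψ = (Algebra.TensorProduct.map ι (AlgHom.id R B)).comp ψk := by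
    refine Algebra.TensorProduct.ext' fun a b => ?_
    show algebraMap R' K a ⊗ₜ[R] b = algebraMap k K (algebraMap R' k a) ⊗ₜ[R] b
    rw [← IsScalarTower.algebraMap_apply]
  have hinj : Function.Injective (Algebra.TensorProduct.map ι (AlgHom.id R B)) :=
    Module.Flat.rTensor_preserves_injective_linearMap (M := B) ι.toLinearMap
      (algebraMap k K).injective
  let Q : Ideal D := RingHom.ker ψ.toRingHom
  haveI : Q.IsPrime := RingHom.ker_isPrime _
  have hover : Q.comap (algebraMap R' D) = p := by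
    ext r
    show ψ (r ⊗ₜ[R] (1 : B)) = 0 ↔ r ∈ p
    show algebraMap R' K r ⊗ₜ[R] (1 : B) = 0 ↔ r ∈ p
    rw [show algebraMap R' K r ⊗ₜ[R] (1 : B) = algebraMap K (K ⊗[R] B) (algebraMap R' K r) from rfl,
      map_eq_zero, IsScalarTower.algebraMap_apply R' k K, map_eq_zero, Ideal.algebraMap_residueField_eq_zero]
  have hQP : Q ≤ P := fun y hy => by
    have hy' : ψk y = 0 := hinj (by
      rw [map_zero, ← AlgHom.comp_apply, ← hψ]; exact hy)
    let kP := P.ResidueField
    let j : k →ₐ[R'] kP := Ideal.ResidueField.mapₐ p P (Algebra.ofId R' D) rfl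
    let χ : k ⊗[R] B →ₐ[R] kP := Algebra.TensorProduct.lift (j.restrictScalars R)
      ((IsScalarTower.toAlgHom R D kP).comp Algebra.TensorProduct.includeRight)
      fun _ _ => Commute.all _ _
    have hχ : ∀ y, χ (ψk y) = algebraMap D kP y := by
      intro y
      induction y using TensorProduct.induction_on with
      | zero => simp
      | add a b ha hb => simp [map_add, ha, hb]
      | tmul a b =>
        show χ (algebraMap R' k a ⊗ₜ[R] b) = _
        rw [Algebra.TensorProduct.lift_tmul]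
        show j (algebraMap R' k a) * algebraMap D kP (1 ⊗ₜ b) = _
        rw [AlgHom.commutes, IsScalarTower.algebraMap_apply R' D kP, ← map_mul,
          show algebraMap R' D a = a ⊗ₜ[R] (1 : B) from rfl, Algebra.TensorProduct.tmul_mul_tmul,
          mul_one, one_mul]
    have := hχ y
    rw [hy', map_zero] at this
    exact Ideal.algebraMap_residueField_eq_zero.1 this.symm
  have hvQ : (1 : R') ⊗ₜ[R] v ∉ Q := fun h => by
    let σ : K ⊗[R] B →ₐ[R] K := Algebra.TensorProduct.lift (AlgHom.id R K)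
      ((Algebra.ofId R K).comp e) fun _ _ => Commute.all _ _
    have h1 : σ (ψ ((1 : R') ⊗ₜ[R] v)) = 1 := by
      show σ (algebraMap R' K 1 ⊗ₜ[R] v) = 1
      rw [Algebra.TensorProduct.lift_tmul]
      simp [hv]
    rw [show ψ ((1 : R') ⊗ₜ[R] v) = 0 from h, map_zero] at h1
    exact zero_ne_one h1
  obtain ⟨w, hwP, hwx⟩ := Flat55.SmoothFibreInj.exists_notMem_mul_eq_zero (R := R') P Q hQP hover
    _ hvQ x hx
  exact hwP (hIP ((Submodule.mem_annihilator_span_singleton x w).2 hwx))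

omit [Algebra.Smooth R B] in
theorem eq_zero_of_hom {P : Ideal B} {R' : Type u} [CommRing R'] [Algebra R R'] {T : Type u}
    [CommRing T] (γ : R' →+* T) (α : B →+* T)
    (hα : α.comp (algebraMap R B) = γ.comp (algebraMap R R')) (hP : ∀ b ∈ P, α b = 0) {x : B}
    (h : (1 : R') ⊗ₜ[R] Ideal.Quotient.mk P x = 0) : α x = 0 := by
  letI : Algebra R T := (γ.comp (algebraMap R R')).toAlgebra
  let αₐ : (B ⧸ P) →ₐ[R] T :=
    { Ideal.Quotient.lift _ α hP with commutes' := fun r => RingHom.congr_fun hα r }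
  let γₐ : R' →ₐ[R] T := { γ with commutes' := fun _ => rfl }
  have h1 := congrArg (Algebra.TensorProduct.lift γₐ αₐ fun _ _ => Commute.all _ _) h
  rw [map_zero, Algebra.TensorProduct.lift_tmul, map_one, one_mul] at h1
  exact h1

theorem main
    (hconn : ∀ (K : Type u) [Field K] [IsAlgClosed K] [Algebra R K],
      ConnectedSpace (PrimeSpectrum (K ⊗[R] B)))
    (e : B →ₐ[R] R) (J : Ideal B) (hJ : J.FG) :
    ∃ n : ℕ, ∀ (R' : Type u) [CommRing R'] [Algebra R R'],
      (∀ x ∈ J, (1 : R') ⊗ₜ[R] x = (0 : R' ⊗[R] B)) ↔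
        (∀ x ∈ J, (1 : R') ⊗ₜ[R] (Ideal.Quotient.mk (RingHom.ker e ^ (n + 1)) x) =
          (0 : R' ⊗[R] (B ⧸ RingHom.ker e ^ (n + 1)))) := by
  classical
  obtain ⟨Cf, hCf⟩ := hJ
  obtain ⟨R₁, A₁, _, _, _, _, _, _, ρ₁, ι, εA₁, hρ₁, hιinj, hrange, hεA₁, hιR, hPmap, hlift⟩ :=
    exists_smooth_model e Cf
  choose g hg using fun c : Cf => hrange c.1 c.2
  let P₁ := RingHom.ker εA₁
  let G : ℕ → Set (A₁) := fun _ => Set.range g
  have hproj : ∀ n : ℕ, Module.Projective R₁ (A₁ ⧸ P₁ ^ (n + 1)) := fun n =>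
    projective_quot εA₁ (IsNoetherian.noetherian _) n
  let I : ℕ → Ideal R₁ := fun n =>
    HilbD.Content.contentIdeal R₁ (Ideal.Quotient.mk (P₁ ^ (n + 1)) '' Set.range g)
  have hImono : ∀ n, I n ≤ I (n + 1) := fun n => by
    haveI := hproj n
    haveI := hproj (n + 1)
    have h1 := (HilbD.Content.contentIdeal_le_ker_iff (A' := R₁ ⧸ I (n + 1)) _).1
      (Ideal.mk_ker (I := I (n + 1))).ge
    refine le_trans ((HilbD.Content.contentIdeal_le_ker_iff (A' := R₁ ⧸ I (n + 1)) _).2 ?_)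
      (Ideal.mk_ker (I := I (n + 1))).le
    rintro _ ⟨a, ha, rfl⟩
    have := congrArg (LinearMap.lTensor (R₁ ⧸ I (n + 1))
      ((Ideal.Quotient.factorₐ R₁ (Ideal.pow_le_pow_right (by omega : n + 1 ≤ n + 1 + 1)) :
        (A₁ ⧸ P₁ ^ (n + 1 + 1)) →ₐ[R₁] A₁ ⧸ P₁ ^ (n + 1)).toLinearMap)) (h1 _ ⟨a, ha, rfl⟩)
    rw [map_zero, LinearMap.lTensor_tmul] at this
    exact this
  obtain ⟨N, hN⟩ := monotone_stabilizes_iff_noetherian.2 (inferInstance : IsNoetherian R₁ R₁)
    ⟨I, monotone_nat_of_le_succ hImono⟩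
  have hle : ∀ n, I n ≤ I N := fun n => by
    rcases le_total n N with h | h
    · exact monotone_nat_of_le_succ hImono h
    · exact (hN n h).ge
  let IA : Ideal A₁ := (I N).map (algebraMap R₁ A₁)
  have hmem : ∀ n c, g c ∈ IA ⊔ P₁ ^ (n + 1) := fun n c => by
    haveI := hproj n
    have h1 := (HilbD.Content.contentIdeal_le_ker_iff (A' := R₁ ⧸ I N) _).1
      ((hle n).trans (Ideal.mk_ker (I := I N)).ge) _ ⟨g c, ⟨c, rfl⟩, rfl⟩
    have h2 := congrArg (TensorProduct.quotTensorEquivQuotSMul (A₁ ⧸ P₁ ^ (n + 1)) (I N)) h1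
    rw [show (1 : R₁ ⧸ I N) = Ideal.Quotient.mk (I N) 1 from rfl,
      TensorProduct.quotTensorEquivQuotSMul_mk_tmul, one_smul, map_zero, Submodule.Quotient.mk_eq_zero,
      Ideal.smul_top_eq_map] at h2
    have h3 : Ideal.Quotient.mk (P₁ ^ (n + 1)) (g c) ∈ IA.map (Ideal.Quotient.mk (P₁ ^ (n + 1))) := by
      rw [Ideal.map_map]
      exact h2
    obtain ⟨j, hj, hja⟩ := (Ideal.mem_map_iff_of_surjective _ Ideal.Quotient.mk_surjective).1 h3
    rw [Ideal.Quotient.eq] at hja
    rw [show g c = j - (j - g c) by ring]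
    exact sub_mem (Ideal.mem_sup_left hj) (Ideal.mem_sup_right hja)
  have hkrull : ∀ c, ∃ a ∈ P₁, (1 - a) * g c ∈ IA := fun c => by
    let P₂ := P₁.map (Ideal.Quotient.mk IA)
    have hx : Ideal.Quotient.mk IA (g c) ∈ (⨅ i : ℕ, P₂ ^ i • ⊤ : Ideal (A₁ ⧸ IA)) := by
      refine Submodule.mem_iInf _ |>.2 fun i => ?_
      rw [Ideal.smul_eq_mul, Ideal.mul_top]
      refine Ideal.pow_le_pow_right (Nat.le_succ i) ?_
      rw [← Ideal.map_pow]
      have := Ideal.mem_map_of_mem (Ideal.Quotient.mk IA) (hmem i c)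
      rwa [Ideal.map_sup, Ideal.map_quotient_self, bot_sup_eq] at this
    obtain ⟨⟨r, hr⟩, hrx⟩ := (Ideal.mem_iInf_smul_pow_eq_bot_iff P₂ _).1 hx
    obtain ⟨a, ha, rfl⟩ := (Ideal.mem_map_iff_of_surjective _ Ideal.Quotient.mk_surjective).1 hr
    refine ⟨a, ha, ?_⟩
    rw [← Ideal.Quotient.eq_zero_iff_mem, map_mul, map_sub, map_one, sub_mul, one_mul]
    exact sub_eq_zero.2 hrx.symm
  choose a ha hag using hkrull
  refine ⟨N, fun R' _ _ => ⟨fun h x hx => ?_, fun h => ?_⟩⟩
  · have := congrArg (LinearMap.lTensor R' (Ideal.Quotient.mkₐ R (RingHom.ker e ^ (N + 1))).toLinearMap)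
      (h x hx)
    rwa [map_zero, LinearMap.lTensor_tmul] at this
  letI : Algebra R₁ R' := ((algebraMap R R').comp ρ₁).toAlgebra
  haveI := hproj N
  have hIker : I N ≤ RingHom.ker (algebraMap R₁ R') := by
    refine (HilbD.Content.contentIdeal_le_ker_iff (A' := R') _).2 ?_
    rintro _ ⟨_, ⟨c, rfl⟩, rfl⟩
    let T := R' ⊗[R₁] (A₁ ⧸ P₁ ^ (N + 1))
    let γ : R' →+* T := Algebra.TensorProduct.includeLeftRingHom
    let θ : A₁ →+* T := (Algebra.TensorProduct.includeRight : _ →ₐ[R₁] T).toRingHom.comp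
      (Ideal.Quotient.mk _)
    have hθR : θ.comp (algebraMap R₁ A₁) = (γ.comp (algebraMap R R')).comp ρ₁ :=
      RingHom.ext fun r => by
        show (1 : R') ⊗ₜ[R₁] (algebraMap R₁ (A₁ ⧸ P₁ ^ (N + 1)) r) = algebraMap R R' (ρ₁ r) ⊗ₜ 1
        rw [Algebra.algebraMap_eq_smul_one r, TensorProduct.tmul_smul, TensorProduct.smul_tmul',
          Algebra.smul_def, mul_one]
        rfl
    obtain ⟨α, hαR, hαι⟩ := hlift T (γ.comp (algebraMap R R')) θ hθR
    have hθn : (P₁ ^ (N + 1)).map θ = ⊥ := by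
      rw [← Ideal.map_map, Ideal.map_quotient_self, Ideal.map_bot]
    have hαn : ∀ b ∈ RingHom.ker e ^ (N + 1), α b = 0 := fun b hb => by
      have := Ideal.mem_map_of_mem α hb
      rwa [hPmap, ← Ideal.map_pow, Ideal.map_map, hαι, hθn, Ideal.mem_bot] at this
    have h1 : α c.1 = 0 :=
      eq_zero_of_hom γ α hαR hαn (h c.1 (hCf ▸ Ideal.subset_span c.2))
    show θ (g c) = 0
    rw [← hαι, RingHom.comp_apply, hg]
    exact h1
  suffices hgen : ∀ c : Cf, (1 : R') ⊗ₜ[R] c.1 = (0 : R' ⊗[R] B) by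
    have hsub : J ≤ RingHom.ker (Algebra.TensorProduct.includeRight : B →ₐ[R] R' ⊗[R] B).toRingHom :=
      hCf ▸ Ideal.span_le.2 fun c hc => hgen ⟨c, hc⟩
    exact fun x hx => hsub hx
  intro c
  refine eq_zero_of_mul_eq_zero hconn e (ι (1 - a c)) ?_ _ ?_
  · rw [← hεA₁, map_sub, map_one, show εA₁ (a c) = 0 from ha c, sub_zero, map_one]
  rw [Algebra.TensorProduct.tmul_mul_tmul, one_mul, ← hg c, ← map_mul]
  have hIA : IA ≤ RingHom.ker
      ((Algebra.TensorProduct.includeRight : B →ₐ[R] R' ⊗[R] B).toRingHom.comp ι) :=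
    Ideal.map_le_iff_le_comap.2 fun r hr => by
      show (1 : R') ⊗ₜ[R] ι (algebraMap R₁ A₁ r) = 0
      rw [← RingHom.comp_apply ι, hιR, RingHom.comp_apply, Algebra.algebraMap_eq_smul_one,
        TensorProduct.tmul_smul, TensorProduct.smul_tmul', Algebra.smul_def, mul_one,
        show algebraMap R R' (ρ₁ r) = 0 from hIker hr, TensorProduct.zero_tmul]
  exact hIA (hag c)

end Groth.Agent.Lib.SectionJ.Infinitesimal
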